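import Cfsg.Agent.Lib.Grp.M24p.D0

set_option autoImplicit false
set_option maxRecDepth 100000
set_option Elab.async false
set_option linter.unusedSectionVars false

namespace Cfsg.Agent.CG.M24p

noncomputable def tabs : List ℕ := [t0,t1,t2,t3,t4,t5,t6,t7,t8,t9,t10,t11,t12,t13,t14,t15,t16,t17,t18,t19,t20,t21,t22]
noncomputable abbrev app : ℕ → ℕ → ℕ := appT tabs t23 0xffff
noncomputable def slpL : List (Bool × List ℕ) := [(false,[]),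
  (false,[]),
  (false,[]),
  (false,[0,1,0,1]),
  (true,[3]),
  (false,[3,3,3]),
  (true,[5]),
  (false,[4,2,5,1]),
  (true,[7]),
  (false,[2,6,6]),
  (true,[9]),
  (false,[7,0,4,0,4]),
  (true,[11]),
  (false,[6,2,7,5]),
  (true,[13]),
  (false,[7,5,2,8,1]),
  (true,[15]),
  (false,[13,15,11,15,12,15]),
  (true,[17]),
  (false,[13,15,11,11,11,13,11]),
  (true,[19]),
  (false,[13,15,13,15,13]),
  (true,[21])]
noncomputable def slp (a : ℕ) : Bool × List ℕ := nth slpL (false, []) a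
noncomputable def invL : List ℕ := [0,2,1,4,3,6,5,8,7,10,9,12,11,14,13,16,15,18,17,20,19,22,21]
noncomputable def inv (a : ℕ) : ℕ := nth invL 23 a
noncomputable def bs : List ℕ := [0,80,16]
noncomputable def mc0 : Lvl := ⟨0, [0,1,2,3,4,5,6,7,8,9,10], 3795,
  fun i => look 0xffff mc0c (Nat.mul 16 i), fun i => look 0xfff mc0p (Nat.mul 12 i),
  fun i => look 0xff mc0l (Nat.mul 8 i), fun i => look 0xff mc0i (Nat.mul 8 i), fun x => look 0xffff mc0q x, 5⟩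
noncomputable def mc1 : Lvl := ⟨80, [11,12,13,14,15,16], 2688,
  fun i => look 0xffff mc1c (Nat.mul 16 i), fun i => look 0xfff mc1p (Nat.mul 12 i),
  fun i => look 0xff mc1l (Nat.mul 8 i), fun i => look 0xff mc1i (Nat.mul 8 i), fun x => look 0xffff mc1q x, 6⟩
noncomputable def mc2 : Lvl := ⟨16, [17,18,19,20,21,22], 24,
  fun i => look 0xffff mc2c (Nat.mul 16 i), fun i => look 0xff mc2p (Nat.mul 8 i),
  fun i => look 0xff mc2l (Nat.mul 8 i), fun i => look 0xff mc2i (Nat.mul 8 i), fun x => look 0xffff mc2q x, 3⟩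
noncomputable def mc : List Lvl := [mc0, mc1, mc2]
noncomputable def tcR : List (List ℕ) := [[0,0],
  [1,2],
  [1,1,1],
  [0,1,0,1,0,1,0,1,0,1,0,1,0,1,0,1,0,1,0,1,0,1,0,1,0,1,0,1,0,1,0,1,0,1,0,1,0,1,0,1,0,1,0,1,0,1],
  [0,2,0,1,0,2,0,1,0,2,0,1,0,2,0,1,0,2,0,1,0,2,0,1,0,2,0,1,0,2,0,1,0,2,0,1,0,2,0,1,0,2,0,1,0,2,0,1],
  [0,2,0,2,0,1,0,1,0,2,0,2,0,1,0,1,0,2,0,2,0,1,0,1,0,2,0,2,0,1,0,1,0,2,0,2,0,1,0,1],
  [0,1,0,1,0,2,0,1,0,2,0,1,0,2,0,1,0,1,0,2,0,1,0,2,0,1,0,2,0,1,0,1,0,2,0,1,0,2,0,1,0,2,0,1,0,1,0,2,0,1,0,2,0,1,0,2],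
  [0,1,0,1,0,2,0,1,0,1,0,2,0,1,0,1,0,2,0,1,0,2,0,2,0,1,0,2,0,2,0,1,0,2,0,2]]
noncomputable def tcS : List ℕ := [0,1,2]

end Cfsg.Agent.CG.M24p
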