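import Cfsg.Agent.Lib.Grp.M24p.Defs

set_option autoImplicit false
set_option maxRecDepth 100000
set_option Elab.async false
set_option linter.unusedSectionVars false

namespace Cfsg.Agent.CG.M24p

theorem c0 : allRange (chkBase 3795 16 (appT tabs t23 0xffff) 0 (inv 0)) 0 3795 = true := by decide +kernel
theorem c1 : allRange (chkBase 3795 16 (appT tabs t23 0xffff) 1 (inv 1)) 0 3795 = true := by decide +kernel
theorem c2 : allRange (chkBase 3795 16 (appT tabs t23 0xffff) 2 (inv 2)) 0 3795 = true := by decide +kernel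
theorem c3 : chkDef 16 (appT tabs t23 0xffff) 3 (slp 3) 0 3795 = true := by decide +kernel
theorem c4 : chkDef 16 (appT tabs t23 0xffff) 4 (slp 4) 0 3795 = true := by decide +kernel
theorem c5 : chkDef 16 (appT tabs t23 0xffff) 5 (slp 5) 0 3795 = true := by decide +kernel
theorem c6 : chkDef 16 (appT tabs t23 0xffff) 6 (slp 6) 0 3795 = true := by decide +kernel
theorem c7 : chkDef 16 (appT tabs t23 0xffff) 7 (slp 7) 0 3795 = true := by decide +kernel
theorem c8 : chkDef 16 (appT tabs t23 0xffff) 8 (slp 8) 0 3795 = true := by decide +kernel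
theorem c9 : chkDef 16 (appT tabs t23 0xffff) 9 (slp 9) 0 3795 = true := by decide +kernel
theorem c10 : chkDef 16 (appT tabs t23 0xffff) 10 (slp 10) 0 3795 = true := by decide +kernel
theorem c11 : chkDef 16 (appT tabs t23 0xffff) 11 (slp 11) 0 3795 = true := by decide +kernel
theorem c12 : chkDef 16 (appT tabs t23 0xffff) 12 (slp 12) 0 3795 = true := by decide +kernel
theorem c13 : chkDef 16 (appT tabs t23 0xffff) 13 (slp 13) 0 3795 = true := by decide +kernel
theorem c14 : chkDef 16 (appT tabs t23 0xffff) 14 (slp 14) 0 3795 = true := by decide +kernel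
theorem c15 : chkDef 16 (appT tabs t23 0xffff) 15 (slp 15) 0 3795 = true := by decide +kernel
theorem c16 : chkDef 16 (appT tabs t23 0xffff) 16 (slp 16) 0 3795 = true := by decide +kernel
theorem c17 : chkDef 16 (appT tabs t23 0xffff) 17 (slp 17) 0 3795 = true := by decide +kernel
theorem c18 : chkDef 16 (appT tabs t23 0xffff) 18 (slp 18) 0 3795 = true := by decide +kernel
theorem c19 : chkDef 16 (appT tabs t23 0xffff) 19 (slp 19) 0 3795 = true := by decide +kernel
theorem c20 : chkDef 16 (appT tabs t23 0xffff) 20 (slp 20) 0 3795 = true := by decide +kernel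
theorem c21 : chkDef 16 (appT tabs t23 0xffff) 21 (slp 21) 0 3795 = true := by decide +kernel
theorem c22 : chkDef 16 (appT tabs t23 0xffff) 22 (slp 22) 0 3795 = true := by decide +kernel
theorem c23 : chkDef 16 (appT tabs t23 0xffff) 23 (false, []) 0 3795 = true := by decide +kernel
theorem c24 : mc0.chk (appT tabs t23 0xffff) 1 3794 = true := by decide +kernel
theorem c25 : mc1.chk (appT tabs t23 0xffff) 1 2687 = true := by decide +kernel
theorem c26 : mc2.chk (appT tabs t23 0xffff) 1 23 = true := by decide +kernel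
theorem c27 : okcb 3795 16 (bases mc) = true := by decide +kernel
theorem c28 : headAll (appT tabs t23 0xffff) mc [] = true := by decide +kernel
theorem c29 : oneAll 16 (appT tabs t23 0xffff) [0,0] 0 3795 = true := by decide +kernel
theorem c30 : oneAll 16 (appT tabs t23 0xffff) [1,2] 0 3795 = true := by decide +kernel
theorem c31 : oneAll 16 (appT tabs t23 0xffff) [1,1,1] 0 3795 = true := by decide +kernel
theorem c32 : oneAll 16 (appT tabs t23 0xffff) [0,1,0,1,0,1,0,1,0,1,0,1,0,1,0,1,0,1,0,1,0,1,0,1,0,1,0,1,0,1,0,1,0,1,0,1,0,1,0,1,0,1,0,1,0,1] 0 3795 = true := by decide +kernel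
theorem c33 : oneAll 16 (appT tabs t23 0xffff) [0,2,0,1,0,2,0,1,0,2,0,1,0,2,0,1,0,2,0,1,0,2,0,1,0,2,0,1,0,2,0,1,0,2,0,1,0,2,0,1,0,2,0,1,0,2,0,1] 0 3795 = true := by decide +kernel
theorem c34 : oneAll 16 (appT tabs t23 0xffff) [0,2,0,2,0,1,0,1,0,2,0,2,0,1,0,1,0,2,0,2,0,1,0,1,0,2,0,2,0,1,0,1,0,2,0,2,0,1,0,1] 0 3795 = true := by decide +kernel
theorem c35 : oneAll 16 (appT tabs t23 0xffff) [0,1,0,1,0,2,0,1,0,2,0,1,0,2,0,1,0,1,0,2,0,1,0,2,0,1,0,2,0,1,0,1,0,2,0,1,0,2,0,1,0,2,0,1,0,1,0,2,0,1,0,2,0,1,0,2] 0 3795 = true := by decide +kernel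
theorem c36 : oneAll 16 (appT tabs t23 0xffff) [0,1,0,1,0,2,0,1,0,1,0,2,0,1,0,1,0,2,0,1,0,2,0,2,0,1,0,2,0,2,0,1,0,2,0,2] 0 3795 = true := by decide +kernel

end Cfsg.Agent.CG.M24p
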